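import Cfsg.Agent.Lib.Recog.HalfNorm.Setup

/-!
The orbits of the stabiliser of two points: one on the other points when `p ≡ 1` mod 4, at most two when
`p ≡ 3` mod 4, and then each of them is the same for both orders of the two points.
-/

set_option autoImplicit false

namespace CfsgLib.Recog.HalfNorm

open CfsgLib.Recog.EvenOverPSL

variable {p : ℕ} [Fact p.Prime] {G : Subgroup (Equiv.Perm (ZMod p))}

/-- `z` is related to the pair `a`, `b` as `c` is to `0`, `1`. -/
def Rel (G : Subgroup (Equiv.Perm (ZMod p))) (c a b z : ZMod p) : Prop :=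
  ∃ σ ∈ G, σ 0 = a ∧ σ 1 = b ∧ σ c = z

theorem Rel.map {c a b z : ZMod p} {σ : Equiv.Perm (ZMod p)} (hσ : σ ∈ G) (h : Rel G c a b z) :
    Rel G c (σ a) (σ b) (σ z) := by
  obtain ⟨τ, hτ, h0, h1, h2⟩ := h
  exact ⟨σ * τ, G.mul_mem hσ hτ, by simp [h0], by simp [h1], by simp [h2]⟩

theorem rel_map_iff {c a b z : ZMod p} {σ : Equiv.Perm (ZMod p)} (hσ : σ ∈ G) :
    Rel G c (σ a) (σ b) (σ z) ↔ Rel G c a b z := by
  refine ⟨fun h => ?_, Rel.map hσ⟩
  simpa using h.map (G.inv_mem hσ)

theorem rel_self (c : ZMod p) : Rel G c 0 1 c := ⟨1, G.one_mem, rfl, rfl, rfl⟩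

theorem Rel.ne {c a b z : ZMod p} (hc0 : c ≠ 0) (hc1 : c ≠ 1) (h : Rel G c a b z) :
    z ≠ a ∧ z ≠ b := by
  obtain ⟨σ, -, rfl, rfl, rfl⟩ := h
  exact ⟨σ.injective.ne hc0, σ.injective.ne hc1⟩

theorem Rel.trans {c d a b z : ZMod p} (hd : Rel G c 0 1 d) (h : Rel G d a b z) : Rel G c a b z := by
  obtain ⟨σ, hσ, h0, h1, h2⟩ := h
  have := hd.map hσ
  rwa [h0, h1, h2] at this

theorem Rel.symm {c d : ZMod p} (h : Rel G c 0 1 d) : Rel G d 0 1 c := by
  obtain ⟨σ, hσ, h0, h1, h2⟩ := h
  exact ⟨σ⁻¹, G.inv_mem hσ, Equiv.Perm.inv_eq_iff_eq.2 h0.symm, Equiv.Perm.inv_eq_iff_eq.2 h1.symm,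
    Equiv.Perm.inv_eq_iff_eq.2 h2.symm⟩

section Kernel

variable (G)

open scoped Classical in
/-- The indicator of the relation. -/
noncomputable def ind (c a b z : ZMod p) : ZMod p := if Rel G c a b z then 1 else 0

/-- The length of an orbit. -/
noncomputable def mval (c : ZMod p) : ZMod p := ∑ z, ind G c 0 1 z

/-- The sum of an orbit. -/
noncomputable def sval (c t : ZMod p) : ZMod p := ∑ z, ind G c 0 t z * z

variable {G}

theorem ind_map {c a b z : ZMod p} {σ : Equiv.Perm (ZMod p)} (hσ : σ ∈ G) :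
    ind G c (σ a) (σ b) (σ z) = ind G c a b z := by
  classical
  unfold ind
  simp only [rel_map_iff hσ]

theorem ind_one {c a b z : ZMod p} (h : Rel G c a b z) : ind G c a b z = 1 := by
  classical
  exact if_pos h

theorem ind_zero {c a b z : ZMod p} (h : ¬ Rel G c a b z) : ind G c a b z = 0 := by
  classical
  exact if_neg h

theorem sum_ind (h : Half p G) (c : ZMod p) {a b : ZMod p} (hab : a ≠ b) :
    ∑ z, ind G c a b z = mval G c := by
  obtain ⟨σ, hσ, rfl, rfl⟩ := h.pair_trans hab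
  rw [← Equiv.sum_comp σ]
  exact Finset.sum_congr rfl fun z _ => ind_map hσ

theorem sum_ind_z (h : Half p G) (c : ZMod p) {t s : ZMod p} (ht : t ≠ 0) (hs : s ≠ 0) (hsq : IsSquare s)
    (a : ZMod p) : ∑ z, ind G c a (s * t + a) z * z = s * sval G c t + a * mval G c := by
  obtain ⟨σ, hσ, e⟩ := h.aff hs hsq a
  rw [← sum_ind h c (Ne.symm ht), sval, Finset.mul_sum, Finset.mul_sum, ← Finset.sum_add_distrib,
    ← Equiv.sum_comp σ]
  refine Finset.sum_congr rfl fun z _ => ?_
  have h1 := ind_map (c := c) (a := 0) (b := t) (z := z) hσ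
  simp only [e, mul_zero, zero_add] at h1
  rw [e, h1]
  ring

/-- The coefficient of `b - a` in the sum of the orbit of a pair. -/
noncomputable def kap (G : Subgroup (Equiv.Perm (ZMod p))) (n c x : ZMod p) : ZMod p :=
  open scoped Classical in if IsSquare x then sval G c 1 else sval G c n / n

theorem sum_ind_kap (h : Half p G) {n : ZMod p} (hn0 : n ≠ 0) (hn : ¬ IsSquare n) (c : ZMod p)
    {a b : ZMod p} (hab : a ≠ b) :
    ∑ z, ind G c a b z * z = (b - a) * kap G n c (b - a) + a * mval G c := by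
  classical
  have hd : b - a ≠ 0 := sub_ne_zero.2 hab.symm
  unfold kap
  split_ifs with hsq
  · rw [← sum_ind_z h c one_ne_zero hd hsq a, mul_one, sub_add_cancel]
  · have h1 := sum_ind_z h c hn0 (div_ne_zero hd hn0) (div_isSquare hn0 hsq hn) a
    rw [div_mul_cancel₀ _ hn0, sub_add_cancel] at h1
    rw [h1]
    field_simp

/-- An equivariant kernel killing the constants and the identity is constant. -/
theorem kernel_eq (h : Half p G) (K : ZMod p → ZMod p → ZMod p → ZMod p)
    (heq : ∀ σ ∈ G, ∀ a b z, K (σ a) (σ b) (σ z) = K a b z)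
    (h0 : ∀ a b, a ≠ b → ∑ z, K a b z = 0) (h1 : ∀ a b, a ≠ b → ∑ z, K a b z * z = 0)
    {a b : ZMod p} (hab : a ≠ b) (z z' : ZMod p) : K a b z = K a b z' :=
  kernel_invariant_any h.trans h.nonaff (P := fun a b => a ≠ b) K
    (fun σ _ x y hxy => σ.injective.ne hxy) (fun σ hσ x y _ w => heq σ hσ x y w) h0 h1 hab z z'

theorem isSquare_neg_one (hp : p % 4 ≠ 3) : IsSquare (-1 : ZMod p) :=
  ZMod.exists_sq_eq_neg_one_iff.2 hp

theorem isSquare_neg_iff (hp : p % 4 ≠ 3) {x : ZMod p} : IsSquare (-x) ↔ IsSquare x :=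
  ⟨fun hx => by simpa using (isSquare_neg_one hp).mul hx, fun hx => by
    simpa using (isSquare_neg_one hp).mul hx⟩

theorem isSquare_neg_iff_not (h : Half p G) (hp : p % 4 = 3) {x : ZMod p} (hx : x ≠ 0) :
    IsSquare (-x) ↔ ¬ IsSquare x := by
  have hn : ¬ IsSquare (-1 : ZMod p) := fun hh => ZMod.exists_sq_eq_neg_one_iff.1 hh hp
  constructor
  · intro h1 h2
    refine hn ?_
    obtain ⟨u, hu⟩ := h1
    obtain ⟨v, hv⟩ := h2
    have hv0 : v ≠ 0 := fun h0 => hx (by rw [hv, h0, mul_zero])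
    refine ⟨u / v, ?_⟩
    rw [div_mul_div_comm, ← hu, ← hv, neg_div, div_self hx]
  · intro h2
    have h3 := div_isSquare (neg_ne_zero.2 one_ne_zero) h2 hn
    rwa [div_neg, div_one] at h3

theorem sum_delta (a : ZMod p) (f : ZMod p → ZMod p) :
    ∑ z, (if z = a then (1 : ZMod p) else 0) * f z = f a := by simp

theorem sum_delta_one (a : ZMod p) : ∑ z : ZMod p, (if z = a then (1 : ZMod p) else 0) = 1 := by simp

/-- For `p ≡ 1` mod 4 the group is triply transitive. -/
theorem rel_all_of_one (h : Half p G) (hp : p % 4 ≠ 3) {c : ZMod p} (hc0 : c ≠ 0) (hc1 : c ≠ 1)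
    {a b z : ZMod p} (hab : a ≠ b) (hza : z ≠ a) (hzb : z ≠ b) : Rel G c a b z := by
  classical
  obtain ⟨n, hn0, hn⟩ := h.exists_nonsquare
  have hp' : p.Prime := Fact.out
  let K : ZMod p → ZMod p → ZMod p → ZMod p := fun a b z =>
    ind G c a b z + ind G c b a z - mval G c * ((if z = a then 1 else 0) + if z = b then 1 else 0)
  have heq : ∀ σ ∈ G, ∀ a b z, K (σ a) (σ b) (σ z) = K a b z := fun σ hσ a b z => by
    simp only [K, ind_map hσ, σ.injective.eq_iff]
  have h0 : ∀ a b, a ≠ b → ∑ z, K a b z = 0 := fun a b hab => by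
    simp only [K, Finset.sum_sub_distrib, Finset.sum_add_distrib, ← Finset.mul_sum, sum_ind h c hab,
      sum_ind h c hab.symm, sum_delta_one]
    ring
  have h1 : ∀ a b, a ≠ b → ∑ z, K a b z * z = 0 := fun a b hab => by
    simp only [K, sub_mul, add_mul, mul_assoc, Finset.sum_sub_distrib, Finset.sum_add_distrib,
      ← Finset.mul_sum, sum_ind_kap h hn0 hn c hab, sum_ind_kap h hn0 hn c hab.symm,
      sum_delta _ fun z => z]
    have hk : kap G n c (a - b) = kap G n c (b - a) := by
      simp only [kap, ← isSquare_neg_iff hp (x := b - a), neg_sub]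
    rw [hk]
    ring
  have hK := kernel_eq h K heq h0 h1 hab
  have hval : ∀ w, w ≠ a → w ≠ b → ind G c a b w + ind G c b a w = -mval G c := by
    intro w hwa hwb
    have := hK w a
    simp only [K, if_neg hwa, if_neg hwb, if_neg hab, if_true, ind_zero fun hr => (hr.ne hc0 hc1).1 rfl,
      ind_zero fun hr => (hr.ne hc0 hc1).2 rfl] at this
    linear_combination this
  let S := Finset.univ.filter fun w => Rel G c a b w
  let T := Finset.univ.filter fun w => Rel G c b a w
  let U : Finset (ZMod p) := (Finset.univ.erase a).erase b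
  have hcardU : U.card = p - 2 := by
    rw [Finset.card_erase_of_mem (Finset.mem_erase.2 ⟨hab.symm, Finset.mem_univ _⟩),
      Finset.card_erase_of_mem (Finset.mem_univ _), Finset.card_univ, ZMod.card]
    omega
  have hSU : S ⊆ U := fun w hw => by
    have := ((Finset.mem_filter.1 hw).2.ne hc0 hc1)
    simp [U, this.1, this.2]
  have hmS : mval G c = (S.card : ZMod p) := by
    rw [← sum_ind h c hab]
    simp only [ind, Finset.sum_boole]
    rfl
  have hmT : mval G c = (T.card : ZMod p) := by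
    rw [← sum_ind h c hab.symm]
    simp only [ind, Finset.sum_boole]
    rfl
  obtain ⟨σ, hσ, s0, s1⟩ := h.pair_trans hab
  have hSpos : 0 < S.card := Finset.card_pos.2 ⟨σ c, Finset.mem_filter.2 ⟨Finset.mem_univ _,
    ⟨σ, hσ, s0, s1, rfl⟩⟩⟩
  have hSle : S.card ≤ p - 2 := hcardU ▸ Finset.card_le_card hSU
  have hw : σ c ≠ a ∧ σ c ≠ b := ⟨s0 ▸ σ.injective.ne hc0, s1 ▸ σ.injective.ne hc1⟩
  have hv := hval _ hw.1 hw.2
  rw [ind_one (⟨σ, hσ, s0, s1, rfl⟩ : Rel G c a b (σ c))] at hv
  have hle : S.card = p - 2 := by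
    by_cases h2 : Rel G c b a (σ c)
    · rw [ind_one h2, hmS] at hv
      have : ((S.card + 2 : ℕ) : ZMod p) = 0 := by push_cast; linear_combination hv
      rw [ZMod.natCast_eq_zero_iff] at this
      have := Nat.le_of_dvd (by omega) this
      omega
    · rw [ind_zero h2, hmS] at hv
      have : ((S.card + 1 : ℕ) : ZMod p) = 0 := by push_cast; linear_combination hv
      rw [ZMod.natCast_eq_zero_iff] at this
      have := Nat.le_of_dvd (by omega) this
      omega
  have hSeq : S = U := Finset.eq_of_subset_of_card_le hSU (by omega)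
  have hmem : z ∈ S := by rw [hSeq]; simp [U, hza, hzb]
  exact (Finset.mem_filter.1 hmem).2

/-- For `p ≡ 3` mod 4 the relation does not depend on the order of the pair. -/
theorem rel_swap (h : Half p G) (hp : p % 4 = 3) {c : ZMod p} (hc0 : c ≠ 0) (hc1 : c ≠ 1)
    {a b : ZMod p} (hab : a ≠ b) : (∀ z, Rel G c a b z ↔ Rel G c b a z) ∧
      ∀ n : ZMod p, n ≠ 0 → ¬ IsSquare n → kap G n c 1 + kap G n c n = mval G c := by
  classical
  obtain ⟨n, hn0, hn⟩ := h.exists_nonsquare
  suffices H : ∀ n : ZMod p, n ≠ 0 → ¬ IsSquare n →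
      (∀ z, Rel G c a b z ↔ Rel G c b a z) ∧ kap G n c 1 + kap G n c n = mval G c from
    ⟨(H n hn0 hn).1, fun n hn0 hn => (H n hn0 hn).2⟩
  clear hn0 hn n
  intro n hn0 hn
  let k0 := kap G n c 1 + kap G n c n - mval G c
  let K : ZMod p → ZMod p → ZMod p → ZMod p := fun a b z =>
    ind G c a b z - ind G c b a z - k0 * ((if z = b then 1 else 0) - if z = a then 1 else 0)
  have heq : ∀ σ ∈ G, ∀ a b z, K (σ a) (σ b) (σ z) = K a b z := fun σ hσ a b z => by
    simp only [K, ind_map hσ, σ.injective.eq_iff]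
  have h0 : ∀ a b, a ≠ b → ∑ z, K a b z = 0 := fun a b hab => by
    simp only [K, Finset.sum_sub_distrib, ← Finset.mul_sum, sum_ind h c hab, sum_ind h c hab.symm,
      sum_delta_one]
    ring
  have h1 : ∀ a b, a ≠ b → ∑ z, K a b z * z = 0 := fun a b hab => by
    simp only [K, sub_mul, mul_assoc, Finset.sum_sub_distrib, ← Finset.mul_sum,
      sum_ind_kap h hn0 hn c hab, sum_ind_kap h hn0 hn c hab.symm, sum_delta _ fun z => z]
    have hk : kap G n c (b - a) + kap G n c (a - b) = kap G n c 1 + kap G n c n := by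
      have hd : b - a ≠ 0 := sub_ne_zero.2 hab.symm
      have hiff := isSquare_neg_iff_not h hp hd
      rw [neg_sub] at hiff
      simp only [kap, if_pos IsSquare.one, if_neg hn]
      by_cases hs : IsSquare (b - a)
      · rw [if_pos hs, if_neg (fun h' => (hiff.1 h') hs)]
      · rw [if_neg hs, if_pos (hiff.2 hs), add_comm]
    linear_combination (b - a) * hk
  have hK := kernel_eq h K heq h0 h1 hab
  have hka : K a b a = k0 := by
    simp only [K, if_pos, if_neg hab, ind_zero fun hr => (hr.ne hc0 hc1).1 rfl,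
      ind_zero fun hr => (hr.ne hc0 hc1).2 rfl]
    ring
  have hkb : K a b b = -k0 := by
    simp only [K, if_pos, if_neg hab.symm, ind_zero fun hr => (hr.ne hc0 hc1).1 rfl,
      ind_zero fun hr => (hr.ne hc0 hc1).2 rfl]
    ring
  have hk0 : k0 = 0 := by
    have := hK a b
    rw [hka, hkb] at this
    exact (mul_eq_zero.1 (by linear_combination this : (2 : ZMod p) * k0 = 0)).resolve_left h.two_ne_zero
  refine ⟨fun z => ?_, sub_eq_zero.1 hk0⟩
  have := hK z a
  rw [hka, hk0] at this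
  simp only [K, hk0, zero_mul, sub_zero] at this
  by_cases h1 : Rel G c a b z <;> by_cases h2 : Rel G c b a z <;>
    simp_all [ind_one, ind_zero]

/-- For `p ≡ 3` mod 4 there are at most two relations. -/
theorem two_orbits (h : Half p G) (hp : p % 4 = 3) {c d e : ZMod p} (hc0 : c ≠ 0) (hc1 : c ≠ 1)
    (hd0 : d ≠ 0) (hd1 : d ≠ 1) (he0 : e ≠ 0) (he1 : e ≠ 1) :
    Rel G c 0 1 d ∨ Rel G c 0 1 e ∨ Rel G d 0 1 e := by
  classical
  by_contra hall
  rw [not_or, not_or] at hall
  obtain ⟨hcd, hce, hde⟩ := hall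
  obtain ⟨n, hn0, hn⟩ := h.exists_nonsquare
  have hck := (rel_swap h hp hc0 hc1 (zero_ne_one (α := ZMod p))).2 n hn0 hn
  have hdk := (rel_swap h hp hd0 hd1 (zero_ne_one (α := ZMod p))).2 n hn0 hn
  obtain ⟨u, v, huv, hu⟩ : ∃ u v : ZMod p, (u ≠ 0 ∨ v ≠ 0) ∧
      u * (kap G n c 1 - kap G n c n) + v * (kap G n d 1 - kap G n d n) = 0 := by
    by_cases h0 : kap G n c 1 - kap G n c n = 0
    · exact ⟨1, 0, Or.inl one_ne_zero, by rw [h0]; ring⟩
    · exact ⟨kap G n d 1 - kap G n d n, -(kap G n c 1 - kap G n c n), Or.inr (neg_ne_zero.2 h0), by ring⟩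
  let dl := u * kap G n c 1 + v * kap G n d 1
  let K : ZMod p → ZMod p → ZMod p → ZMod p := fun a b z =>
    u * ind G c a b z + v * ind G d a b z + ((dl - (u * mval G c + v * mval G d)) * (if z = a then 1 else 0) -
      dl * if z = b then 1 else 0)
  have heq : ∀ σ ∈ G, ∀ a b z, K (σ a) (σ b) (σ z) = K a b z := fun σ hσ a b z => by
    simp only [K, ind_map hσ, σ.injective.eq_iff]
  have h0 : ∀ a b, a ≠ b → ∑ z, K a b z = 0 := fun a b hab => by
    simp only [K, Finset.sum_add_distrib, Finset.sum_sub_distrib, ← Finset.mul_sum, sum_ind h c hab,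
      sum_ind h d hab, sum_delta_one]
    ring
  have h1 : ∀ a b, a ≠ b → ∑ z, K a b z * z = 0 := fun a b hab => by
    simp only [K, add_mul, sub_mul, mul_assoc, Finset.sum_add_distrib, Finset.sum_sub_distrib,
      ← Finset.mul_sum, sum_ind_kap h hn0 hn c hab, sum_ind_kap h hn0 hn d hab, sum_delta _ fun z => z]
    have hk : u * kap G n c (b - a) + v * kap G n d (b - a) = dl := by
      simp only [dl, kap, if_pos IsSquare.one, if_neg hn] at hu ⊢
      by_cases hs : IsSquare (b - a)
      · rw [if_pos hs, if_pos hs]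
      · rw [if_neg hs, if_neg hs]
        linear_combination -hu
    linear_combination (b - a) * hk
  have hK := kernel_eq h K heq h0 h1 (zero_ne_one (α := ZMod p))
  have hz : ∀ z, z ≠ 0 → z ≠ 1 → K 0 1 z = u * ind G c 0 1 z + v * ind G d 0 1 z := fun z hz0 hz1 => by
    simp only [K, if_neg hz0, if_neg hz1]
    ring
  have hze : K 0 1 e = 0 := by
    rw [hz e he0 he1, ind_zero hce, ind_zero hde]
    ring
  have hu0 : u = 0 := by
    have := hK c e
    rw [hze, hz c hc0 hc1, ind_one (rel_self c), ind_zero fun h' => hcd h'.symm] at this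
    linear_combination this
  have hv0 : v = 0 := by
    have := hK d e
    rw [hze, hz d hd0 hd1, ind_one (rel_self d), ind_zero hcd] at this
    linear_combination this
  rcases huv with hh | hh
  exacts [hh hu0, hh hv0]

end Kernel

end CfsgLib.Recog.HalfNorm
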