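import Cfsg.Agent.Lib.Recog.HalfNorm.Orbits
import Cfsg.Agent.Lib.Recog.EvenOverPSL.Netto

/-!
A stabiliser of a point has no blocks on the other points: a block with the fixed point gives a system of lines,
which is a Netto triple system by the sums of its lines, and that system has no such automorphisms.
-/

set_option autoImplicit false

namespace CfsgLib.Recog.HalfNorm

open CfsgLib.Recog.EvenOverPSL

variable {p : ℕ} [Fact p.Prime] {G : Subgroup (Equiv.Perm (ZMod p))}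

/-- No nontrivial block of the stabiliser of `0`. -/
theorem no_block (h : Half p G) (hp : p % 4 = 3) (hp7 : 7 < p) (S : Finset (ZMod p)) (h0 : (0 : ZMod p) ∉ S)
    (h1 : (1 : ZMod p) ∈ S)
    (hblock : ∀ σ ∈ G, σ 0 = 0 → ∀ x ∈ S, σ x ∈ S → ∀ z ∈ S, σ z ∈ S)
    {d e : ZMod p} (hdS : d ∈ S) (hd1 : d ≠ 1) (heS : e ∉ S) (he0 : e ≠ 0) : False := by
  classical
  have hd0 : d ≠ 0 := fun h' => h0 (h' ▸ hdS)
  have hneg : ¬ IsSquare (-1 : ZMod p) := fun hh => ZMod.exists_sq_eq_neg_one_iff.1 hh hp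
  -- the relation of `d` is membership in the block
  have hrel : ∀ z, Rel G d 0 1 z ↔ z ∈ S ∧ z ≠ 1 := by
    intro z
    constructor
    · intro hr
      refine ⟨?_, (hr.ne hd0 hd1).2⟩
      obtain ⟨σ, hσ, s0, s1, rfl⟩ := hr
      exact hblock σ hσ s0 1 h1 (s1.symm ▸ h1) d hdS
    · rintro ⟨hz, hz1⟩
      have hin : ∀ c ∈ S, ¬ Rel G c 0 1 e := by
        rintro c hc ⟨σ, hσ, s0, s1, he⟩
        exact heS (he ▸ hblock σ hσ s0 1 h1 (s1.symm ▸ h1) c hc)
      rcases two_orbits h hp hd0 hd1 (fun h' => h0 (h' ▸ hz)) hz1 he0 (fun h' => heS (h'.symm ▸ h1))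
        with hr | hr | hr
      exacts [hr, absurd hr (hin d hdS), absurd hr (hin z hz)]
  -- blocks which meet are equal
  have hsame : ∀ σ ∈ G, ∀ τ ∈ G, σ 0 = 0 → τ 0 = 0 → (∃ x ∈ S, ∃ y ∈ S, σ x = τ y) →
      S.image σ = S.image τ := by
    intro σ hσ τ hτ s0 t0 hxy
    have key : ∀ σ ∈ G, ∀ τ ∈ G, σ 0 = 0 → τ 0 = 0 → (∃ x ∈ S, ∃ y ∈ S, σ x = τ y) →
        S.image σ ⊆ S.image τ := by
      rintro σ hσ τ hτ s0 t0 ⟨x, hx, y, hy, he⟩ w hw
      obtain ⟨z, hz, rfl⟩ := Finset.mem_image.1 hw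
      refine Finset.mem_image.2 ⟨τ⁻¹ (σ z), ?_, by simp⟩
      refine hblock (τ⁻¹ * σ) (G.mul_mem (G.inv_mem hτ) hσ) ?_ x hx ?_ z hz
      · rw [Equiv.Perm.mul_apply, s0, Equiv.Perm.inv_eq_iff_eq, t0]
      · rw [Equiv.Perm.mul_apply, he, Equiv.Perm.inv_def, Equiv.symm_apply_apply]
        exact hy
    obtain ⟨x, hx, y, hy, he⟩ := hxy
    exact Finset.Subset.antisymm (key σ hσ τ hτ s0 t0 ⟨x, hx, y, hy, he⟩)
      (key τ hτ σ hσ t0 s0 ⟨y, hy, x, hx, he.symm⟩)
  -- a square multiplier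
  have hmulS : ∀ u : ZMod p, u ≠ 0 → IsSquare u → (∃ x ∈ S, u * x ∈ S) → ∀ z ∈ S, u * z ∈ S := by
    rintro u hu hsq ⟨x, hx, hux⟩ z hz
    obtain ⟨σ, hσ, hσe⟩ := h.mul u hu hsq
    rw [← hσe] at hux ⊢
    exact hblock σ hσ (by simp [hσe]) x hx hux z hz
  -- the block of `-1`
  obtain ⟨τ, hτ, t0, t1⟩ := h.pair_trans (a := 0) (b := -1) (neg_ne_zero.2 one_ne_zero).symm
  let S' := S.image τ
  have hS' : S' = insert (-1) ((S.erase 1).image fun s => s - 1) := by
    ext w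
    constructor
    · intro hw
      obtain ⟨z, hz, rfl⟩ := Finset.mem_image.1 hw
      rcases eq_or_ne z 1 with rfl | hz1
      · rw [t1]
        exact Finset.mem_insert_self _ _
      refine Finset.mem_insert_of_mem (Finset.mem_image.2 ⟨τ z + 1, ?_, by ring⟩)
      have hr : Rel G d 1 0 (τ z + 1) := by
        have h' := ((hrel z).2 ⟨hz, hz1⟩).map hτ
        rw [t0, t1] at h'
        simpa using h'.map (h.trans 1)
      rw [← (rel_swap h hp hd0 hd1 (zero_ne_one (α := ZMod p))).1, hrel] at hr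
      exact Finset.mem_erase.2 ⟨hr.2, hr.1⟩
    · intro hw
      rcases Finset.mem_insert.1 hw with rfl | hw
      · exact Finset.mem_image.2 ⟨1, h1, t1⟩
      obtain ⟨s, hs, rfl⟩ := Finset.mem_image.1 hw
      rw [Finset.mem_erase] at hs
      have hr := (hrel s).2 ⟨hs.2, hs.1⟩
      rw [(rel_swap h hp hd0 hd1 (zero_ne_one (α := ZMod p))).1] at hr
      have h'' := (hr.map (h.trans (-1))).map (G.inv_mem hτ)
      have e0 : τ⁻¹ (0 : ZMod p) = 0 := Equiv.Perm.inv_eq_iff_eq.2 t0.symm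
      have e1 : τ⁻¹ (-1 : ZMod p) = 1 := Equiv.Perm.inv_eq_iff_eq.2 t1.symm
      simp only [Equiv.coe_addRight, add_neg_cancel, zero_add, e0, e1] at h''
      refine Finset.mem_image.2 ⟨τ⁻¹ (s + -1), ((hrel _).1 h'').1, by simp [sub_eq_add_neg]⟩
  have h1S' : (-1 : ZMod p) ∈ S' := by rw [hS']; exact Finset.mem_insert_self _ _
  have hsum : ∑ w ∈ S', w = (∑ s ∈ S, s) - ((S.card : ZMod p) + 1) := by
    rw [hS', Finset.sum_insert, Finset.sum_image (fun x _ y _ hxy => by linear_combination hxy),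
      Finset.sum_sub_distrib, Finset.sum_const, Finset.card_erase_of_mem h1, Finset.sum_erase_eq_sub h1,
      nsmul_one, Nat.cast_sub (Finset.card_pos.2 ⟨1, h1⟩), Nat.cast_one]
    · ring
    · intro hm
      obtain ⟨s, hs, he⟩ := Finset.mem_image.1 hm
      exact h0 (by rw [← show s = 0 by linear_combination he]; exact Finset.mem_of_mem_erase hs)
  -- a fixed multiplier kills the sum
  have hzero : ∀ u : ZMod p, u ≠ 0 → u ≠ 1 → ∀ T : Finset (ZMod p), (∀ z ∈ T, u * z ∈ T) →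
      ∑ z ∈ T, z = 0 := by
    intro u hu0 hu1 T hT
    have himg : T.image (fun z => u * z) = T := by
      refine Finset.eq_of_subset_of_card_le (Finset.image_subset_iff.2 hT) ?_
      rw [Finset.card_image_of_injective _ (mul_right_injective₀ hu0)]
    have he : u * ∑ z ∈ T, z = ∑ z ∈ T, z := by
      conv_rhs => rw [← himg, Finset.sum_image (fun x _ y _ hxy => mul_left_cancel₀ hu0 hxy)]
      rw [Finset.mul_sum]
    exact (mul_eq_zero.1 (by linear_combination he : (u - 1) * ∑ z ∈ T, z = 0)).resolve_left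
      (sub_ne_zero.2 hu1)
  by_cases hx : ∃ x ∈ S, x ≠ 1 ∧ IsSquare x
  · obtain ⟨x, hxS, hx1, hxsq⟩ := hx
    have hx0 : x ≠ 0 := fun h' => h0 (h' ▸ hxS)
    have hsum0 : ∑ s ∈ S, s = 0 :=
      hzero x hx0 hx1 S (hmulS x hx0 hxsq ⟨1, h1, by simpa using hxS⟩)
    have hsum' : ∑ w ∈ S', w = 0 := by
      by_cases hc : ∃ c ∈ S, ¬ IsSquare c
      · obtain ⟨c, hcS, hc⟩ := hc
        have hc0 : c ≠ 0 := fun h' => h0 (h' ▸ hcS)
        have hu : IsSquare (-1 / c) := div_isSquare hc0 hneg hc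
        have hu0 : -1 / c ≠ 0 := div_ne_zero (neg_ne_zero.2 one_ne_zero) hc0
        obtain ⟨σ, hσ, hσe⟩ := h.mul _ hu0 hu
        have he : S.image σ = S' := hsame σ hσ τ hτ (by simp [hσe]) t0
          ⟨c, hcS, 1, h1, by rw [hσe, t1, div_mul_cancel₀ _ hc0]⟩
        rw [← he, Finset.sum_image (fun a _ b _ hab => σ.injective hab)]
        rw [Finset.sum_congr rfl fun x _ => hσe x, ← Finset.mul_sum, hsum0, mul_zero]
      · push Not at hc
        obtain ⟨w, hwS, hw1⟩ : ∃ w ∈ S', w ≠ -1 :=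
          ⟨τ d, Finset.mem_image_of_mem _ hdS, fun he => hd1 (τ.injective (he.trans t1.symm))⟩
        have hw0 : w ≠ 0 := by
          obtain ⟨z, hz, rfl⟩ := Finset.mem_image.1 hwS
          exact fun h' => h0 (τ.injective (h'.trans t0.symm) ▸ hz)
        have hwns : ¬ IsSquare w := by
          intro hw
          obtain ⟨σ, hσ, hσe⟩ := h.mul w hw0 hw
          obtain ⟨z, hz, hzw⟩ := Finset.mem_image.1 hwS
          have he := hsame σ hσ τ hτ (by simp [hσe]) t0 ⟨1, h1, z, hz, by rw [hσe, mul_one, hzw]⟩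
          have hm : (-1 : ZMod p) ∈ S.image σ := he ▸ h1S'
          obtain ⟨v, hv, hve⟩ := Finset.mem_image.1 hm
          exact hneg (hve ▸ hσe v ▸ hw.mul (hc v hv))
        have hu : IsSquare (-w) := (isSquare_neg_iff_not h hp hw0).2 hwns
        refine hzero (-w) (neg_ne_zero.2 hw0) (fun h' => hw1 (by rw [← h', neg_neg])) S' ?_
        obtain ⟨σ, hσ, hσe⟩ := h.mul _ (neg_ne_zero.2 hw0) hu
        obtain ⟨z, hz, hzw⟩ := Finset.mem_image.1 hwS
        have he : S.image (σ * τ) = S' := hsame (σ * τ) (G.mul_mem hσ hτ) τ hτ (by simp [hσe, t0]) t0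
          ⟨1, h1, z, hz, by rw [Equiv.Perm.mul_apply, t1, hσe, hzw]; ring⟩
        intro v hv
        obtain ⟨s, hs, rfl⟩ := Finset.mem_image.1 hv
        rw [← hσe, ← he]
        exact Finset.mem_image.2 ⟨s, hs, rfl⟩
    rw [hsum, hsum0, zero_sub, neg_eq_zero, ← Nat.cast_one, ← Nat.cast_add,
      ZMod.natCast_eq_zero_iff] at hsum'
    have hle := Nat.le_of_dvd (Nat.succ_pos _) hsum'
    have hsub : S ⊆ ((Finset.univ : Finset (ZMod p)).erase 0).erase e := fun z hz =>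
      Finset.mem_erase.2 ⟨fun h' => heS (h' ▸ hz), Finset.mem_erase.2 ⟨fun h' => h0 (h' ▸ hz),
        Finset.mem_univ _⟩⟩
    have hcard := Finset.card_le_card hsub
    rw [Finset.card_erase_of_mem (Finset.mem_erase.2 ⟨he0, Finset.mem_univ _⟩),
      Finset.card_erase_of_mem (Finset.mem_univ _), Finset.card_univ, ZMod.card] at hcard
    omega
  push Not at hx
  have hdns : ¬ IsSquare d := hx d hdS hd1
  have honly : ∀ z ∈ S, z ≠ 1 → z = d := by
    intro z hz hz1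
    have hu : IsSquare (z / d) := div_isSquare hd0 (hx z hz hz1) hdns
    have hu0 : z / d ≠ 0 := div_ne_zero (fun h' => h0 (h' ▸ hz)) hd0
    have hS1 := hmulS _ hu0 hu ⟨d, hdS, by rwa [div_mul_cancel₀ _ hd0]⟩ 1 h1
    rw [mul_one] at hS1
    by_contra hne
    exact hx _ hS1 (fun h' => hne ((div_eq_one_iff_eq hd0).1 h')) hu
  have hq : d ^ 2 - d + 1 = 0 := by
    obtain ⟨σ, hσ, hσe⟩ := h.mul _ (div_ne_zero (neg_ne_zero.2 one_ne_zero) hd0) (div_isSquare hd0 hneg hdns)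
    have he : S.image σ = S' := hsame σ hσ τ hτ (by simp [hσe]) t0
      ⟨d, hdS, 1, h1, by rw [hσe, t1, div_mul_cancel₀ _ hd0]⟩
    have hm : d - 1 ∈ S.image σ := by
      rw [he, hS']
      exact Finset.mem_insert_of_mem (Finset.mem_image.2 ⟨d, Finset.mem_erase.2 ⟨hd1, hdS⟩, rfl⟩)
    obtain ⟨v, hv, hve⟩ := Finset.mem_image.1 hm
    rw [hσe] at hve
    rcases eq_or_ne v 1 with rfl | hv1
    · field_simp at hve
      linear_combination -hve
    · rw [honly v hv hv1, div_mul_cancel₀ _ hd0] at hve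
      exact absurd (by linear_combination -hve : d = 0) hd0
  -- the triple system
  have hR : ∀ z, Rel G d 0 1 z → z = d := fun z hz => honly z ((hrel z).1 hz).1 ((hrel z).1 hz).2
  have hT : ∀ a b z, a ≠ b → Rel G d a b z → z = nettoT (-d) a b := by
    have hsq : ∀ a b z, a ≠ b → IsSquare (b - a) → Rel G d a b z → z = a + d * (b - a) := by
      intro a b z hab hs hz
      obtain ⟨σ, hσ, hσe⟩ := h.aff (sub_ne_zero.2 hab.symm) hs a
      have h' := hz.map (G.inv_mem hσ)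
      have e0 : σ⁻¹ a = 0 := Equiv.Perm.inv_eq_iff_eq.2 (by rw [hσe]; ring)
      have e1 : σ⁻¹ b = 1 := Equiv.Perm.inv_eq_iff_eq.2 (by rw [hσe]; ring)
      rw [e0, e1] at h'
      have h'' := Equiv.Perm.inv_eq_iff_eq.1 (hR _ h')
      rw [h'', hσe]
      ring
    intro a b z hab hz
    by_cases hs : IsSquare (b - a)
    · rw [nettoT_sq (b - a) rfl hs, hsq a b z hab hs hz]
      ring
    · have hs' : IsSquare (a - b) := by
        rw [← neg_sub]
        exact (isSquare_neg_iff_not h hp (sub_ne_zero.2 hab.symm)).2 hs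
      rw [nettoT_nsq (b - a) rfl hs,
        hsq b a z hab.symm hs' (((rel_swap h hp hd0 hd1 hab).1 z).1 hz)]
      ring
  have hTrel : ∀ a b, a ≠ b → Rel G d a b (nettoT (-d) a b) := by
    intro a b hab
    obtain ⟨σ, hσ, s0, s1⟩ := h.pair_trans hab
    have hr : Rel G d a b (σ d) := ⟨σ, hσ, s0, s1, rfl⟩
    exact hT a b _ hab hr ▸ hr
  have hcsq : IsSquare (-d) := (isSquare_neg_iff_not h hp hd0).2 hdns
  refine not_exchange hp7 (c := -d) (by linear_combination hq) hcsq hneg fun y hy0 hy1 hyd => ?_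
  rw [neg_neg] at hyd
  obtain ⟨ρ, hρ, r0, r1⟩ := h.pair_trans (a := (1 : ZMod p)) (b := 0) one_ne_zero
  have hρd : ρ d = d := by
    refine hR _ (((rel_swap h hp hd0 hd1 (zero_ne_one (α := ZMod p))).1 _).2 ?_)
    exact ⟨ρ, hρ, r0, r1, rfl⟩
  have hy'0 : ρ y ≠ 0 := r1 ▸ ρ.injective.ne hy1
  have hy'1 : ρ y ≠ 1 := r0 ▸ ρ.injective.ne hy0
  have hy'd : ρ y ≠ d := hρd ▸ ρ.injective.ne hyd
  rcases two_orbits h hp hd0 hd1 hy'0 hy'1 hy0 hy1 with hr | hr | ⟨μ, hμ, m0, m1, my⟩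
  · exact absurd (hR _ hr) hy'd
  · exact absurd (hR _ hr) hyd
  refine ⟨⇑(μ * ρ), by simp [r0, m1], by simp [r1, m0], by simpa using my, (μ * ρ).injective, fun u v => ?_⟩
  rcases eq_or_ne u v with rfl | huv
  · rw [nettoT_sq 0 (sub_self u) IsSquare.zero, nettoT_sq 0 (sub_self _) IsSquare.zero]
    simp
  · exact hT _ _ _ ((μ * ρ).injective.ne huv) ((hTrel u v huv).map (G.mul_mem hμ hρ))

end CfsgLib.Recog.HalfNorm
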