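import Cfsg.Agent.Lib.Recog.HalfNorm.Space
import Cfsg.Agent.Lib.Recog.PrimeDegree
import Cfsg.Agent.Lib.Perm.PrimeDegreeSylow

/-!
An insoluble group of prime degree `p` whose Sylow normaliser has order `p (p - 1) / 2`, labelled by `ZMod p`:
it contains the translations and the multiplications by squares, and is doubly transitive.
-/

set_option autoImplicit false

namespace CfsgLib.Recog.HalfNorm

open CfsgLib.Recog.EvenOverPSL MulAction

/-- The properties of the labelled group. -/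
structure Half (p : ℕ) [Fact p.Prime] (G : Subgroup (Equiv.Perm (ZMod p))) : Prop where
  odd : p ≠ 2
  trans : ∀ b : ZMod p, Equiv.addRight b ∈ G
  mul : ∀ s : ZMod p, s ≠ 0 → IsSquare s → ∃ σ ∈ G, ∀ x, σ x = s * x
  nonaff : ∃ σ ∈ G, ¬ IsAffineMap (σ : ZMod p → ZMod p)

variable {p : ℕ} [Fact p.Prime] {G : Subgroup (Equiv.Perm (ZMod p))}

theorem Half.two_ne_zero (h : Half p G) : (2 : ZMod p) ≠ 0 := fun h2 => by
  have hp : p.Prime := Fact.out
  have h2' : ((2 : ℕ) : ZMod p) = 0 := by exact_mod_cast h2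
  rw [ZMod.natCast_eq_zero_iff] at h2'
  have := Nat.le_of_dvd (by norm_num) h2'
  have := hp.two_le
  exact h.odd (by omega)

theorem Half.aff (h : Half p G) {s : ZMod p} (hs : s ≠ 0) (hsq : IsSquare s) (a : ZMod p) :
    ∃ σ ∈ G, ∀ x, σ x = s * x + a := by
  obtain ⟨σ, hσ, e⟩ := h.mul s hs hsq
  exact ⟨Equiv.addRight a * σ, G.mul_mem (h.trans a) hσ, fun x => by simp [e]⟩

theorem Half.exists_nonsquare (h : Half p G) : ∃ n : ZMod p, n ≠ 0 ∧ ¬ IsSquare n := by
  have hp : p.Prime := Fact.out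
  obtain ⟨n, hn⟩ := FiniteField.exists_nonsquare (F := ZMod p) (by rw [ZMod.ringChar_zmod_n]; exact h.odd)
  exact ⟨n, fun h0 => hn (h0 ▸ IsSquare.zero), hn⟩

theorem div_isSquare {a b : ZMod p} (hb : b ≠ 0) (hna : ¬ IsSquare a) (hnb : ¬ IsSquare b) :
    IsSquare (a / b) := by
  have ha : a ≠ 0 := fun h => hna (h ▸ IsSquare.zero)
  rcases eq_or_ne (ringChar (ZMod p)) 2 with h2 | h2
  · exact absurd (FiniteField.isSquare_of_char_two h2 a) hna
  rw [← quadraticChar_one_iff_isSquare (div_ne_zero ha hb)]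
  rw [div_eq_mul_inv, map_mul, ← map_inv₀' hb]
  rw [quadraticChar_neg_one_iff_not_isSquare.2 hna, quadraticChar_neg_one_iff_not_isSquare.2 hnb]
  norm_num
where
  map_inv₀' {b : ZMod p} (hb : b ≠ 0) : quadraticChar (ZMod p) b = quadraticChar (ZMod p) b⁻¹ := by
    rcases quadraticChar_dichotomy hb with h | h
    · rw [h, eq_comm, quadraticChar_one_iff_isSquare (inv_ne_zero hb)]
      obtain ⟨c, hc⟩ := (quadraticChar_one_iff_isSquare hb).1 h
      exact ⟨c⁻¹, by rw [hc, mul_inv]⟩
    · rw [h, eq_comm, quadraticChar_neg_one_iff_not_isSquare]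
      rintro ⟨c, hc⟩
      exact quadraticChar_neg_one_iff_not_isSquare.1 h ⟨c⁻¹, by rw [← inv_inv b, hc, mul_inv]⟩

/-- The group is doubly transitive. -/
theorem Half.pair_trans (h : Half p G) {a b : ZMod p} (hab : a ≠ b) :
    ∃ σ ∈ G, σ 0 = a ∧ σ 1 = b := by
  classical
  have hd : b - a ≠ 0 := sub_ne_zero.2 hab.symm
  by_cases hsq : IsSquare (b - a)
  · obtain ⟨σ, hσ, e⟩ := h.aff hd hsq a
    exact ⟨σ, hσ, by rw [e]; ring, by rw [e]; ring⟩
  obtain ⟨n, hn0, hn, τ, hτ, t0, t1⟩ : ∃ n : ZMod p, n ≠ 0 ∧ ¬ IsSquare n ∧ ∃ τ ∈ G, τ 0 = 0 ∧ τ 1 = n := by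
    by_contra hall
    push Not at hall
    obtain ⟨σ, hσ, hna⟩ := h.nonaff
    let D : Subgroup (ZMod p)ˣ := (powMonoidHom 2 : (ZMod p)ˣ →* (ZMod p)ˣ).range
    have hD : ∀ u : (ZMod p)ˣ, u ∈ D ↔ IsSquare (u : ZMod p) := by
      intro u
      constructor
      · rintro ⟨v, rfl⟩
        exact ⟨(v : ZMod p), by simp [pow_two]⟩
      · rintro ⟨c, hc⟩
        have hc0 : c ≠ 0 := fun h0 => u.ne_zero (by rw [hc, h0, mul_zero])
        exact ⟨Units.mk0 c hc0, Units.ext (by simp [hc, pow_two])⟩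
    have hDtop : D ≠ ⊤ := by
      obtain ⟨n, hn0, hn⟩ := h.exists_nonsquare
      intro htop
      exact hn ((hD (Units.mk0 n hn0)).1 (htop ▸ Subgroup.mem_top _))
    refine hna (CfsgLib.Recog.affine_of_difference_subgroup D hDtop _ σ.injective fun x u hu => ?_)
    obtain ⟨μ, hμ, hμe⟩ := h.mul u u.ne_zero ((hD u).1 hu)
    let τ := Equiv.addRight (-σ x) * (σ * (Equiv.addRight x * μ))
    have hτ : τ ∈ G := G.mul_mem (h.trans _) (G.mul_mem hσ (G.mul_mem (h.trans _) hμ))
    have hτe : ∀ y, τ y = σ ((u : ZMod p) * y + x) - σ x := fun y => by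
      simp [τ, hμe, sub_eq_add_neg]
    have h1 : τ 1 ≠ 0 := by
      rw [hτe, sub_ne_zero, mul_one]
      intro he
      exact u.ne_zero (by linear_combination σ.injective he)
    have hsq1 : IsSquare (τ 1) := by
      by_contra hnsq
      exact hall (τ 1) h1 hnsq τ hτ (by simp [hτe]) rfl
    exact ⟨Units.mk0 (τ 1) h1, (hD _).2 hsq1, by rw [Units.val_mk0, hτe, mul_one, add_comm]⟩
  obtain ⟨σ, hσ, e⟩ := h.aff (div_ne_zero hd hn0) (div_isSquare hn0 hsq hn) a
  refine ⟨σ * τ, G.mul_mem hσ hτ, ?_, ?_⟩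
  · rw [Equiv.Perm.mul_apply, t0, e]; ring
  · rw [Equiv.Perm.mul_apply, t1, e, div_mul_cancel₀ _ hn0]; ring

/-- The labelling. -/
theorem exists_half {H Ω : Type*} [Group H] [Finite H] [MulAction H Ω] [FaithfulSMul H Ω] [Finite Ω]
    (hΩ : Nat.card Ω = p) (htrans : IsPretransitive H Ω) (hins : ¬ Group.IsSolvable H) (P : Sylow p H)
    (hN : 2 * Nat.card (Subgroup.normalizer ((P : Subgroup H) : Set H)) = p * (p - 1)) :
    ∃ (e : Ω ≃ ZMod p) (φ : H →* Equiv.Perm (ZMod p)),
      (∀ (g : H) x, φ g (e x) = e (g • x)) ∧ Half p φ.range := by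
  classical
  have hp : p.Prime := Fact.out
  have : Fintype Ω := Fintype.ofFinite Ω
  have hα : Fintype.card Ω = p := by rw [← Nat.card_eq_fintype_card, hΩ]
  let π : H →* Equiv.Perm Ω := MulAction.toPermHom H Ω
  have hπ : Function.Injective π := MulAction.toPerm_injective
  have : IsPretransitive π.range Ω := ⟨fun a b => by
    obtain ⟨g, hg⟩ := htrans.exists_smul_eq a b
    exact ⟨⟨π g, g, rfl⟩, hg⟩⟩
  have hpdvd : p ∣ Nat.card H := by
    obtain ⟨σ, -, hσ, -⟩ := CfsgLib.Perm.exists_equiv_zmod hα π.range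
    rw [← hσ]
    exact (orderOf_dvd_natCard σ).trans (Subgroup.card_range_dvd π)
  have hP : Nat.card (P : Subgroup H) = p := by
    have h1 : p ∣ Nat.card (P : Subgroup H) := P.dvd_card_of_dvd_card hpdvd
    obtain ⟨k, hk⟩ := IsPGroup.iff_card.1 P.isPGroup'
    rcases Nat.lt_or_ge k 2 with h2 | h2
    · interval_cases k
      · rw [hk, pow_zero, Nat.dvd_one] at h1
        exact absurd h1 hp.ne_one
      · rw [hk, pow_one]
    · exfalso
      refine CfsgLib.Perm.sq_not_dvd_card hα ((P : Subgroup H).map π) ?_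
      rw [← Nat.card_congr (Subgroup.equivMapOfInjective _ _ hπ).toEquiv, hk, ← pow_two]
      exact pow_dvd_pow p h2
  obtain ⟨⟨c, hcP⟩, hc⟩ := exists_prime_orderOf_dvd_card' (G := (P : Subgroup H)) p (hP.symm ▸ dvd_rfl)
  rw [Subgroup.orderOf_mk] at hc
  obtain ⟨e0, he0⟩ := CfsgLib.Perm.exists_equiv_zmod_of_orderOf hα (π c) (by rw [orderOf_injective π hπ, hc])
  let e : Ω ≃ ZMod p := e0.symm
  let φ : H →* Equiv.Perm (ZMod p) := e.permCongrHom.toMonoidHom.comp π
  have hφ : ∀ (g : H) x, φ g (e x) = e (g • x) := fun g x => by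
    show e (π g (e.symm (e x))) = e (g • x)
    rw [e.symm_apply_apply]
    rfl
  have hφi : Function.Injective φ := e.permCongrHom.injective.comp hπ
  refine ⟨e, φ, hφ, ?_⟩
  have hc1 : ∀ x, φ c x = x + 1 := fun x => by
    obtain ⟨y, rfl⟩ := e.surjective x
    rw [hφ, show c • y = π c y from rfl]
    obtain ⟨j, rfl⟩ := e0.surjective y
    rw [he0]
    simp [e]
  have hcn : ∀ (n : ℕ) x, φ (c ^ n) x = x + n := fun n => by
    induction n with
    | zero => simp
    | succ n ih =>
      intro x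
      rw [pow_succ, map_mul, Equiv.Perm.mul_apply, hc1, ih]
      push_cast
      ring
  have htr : ∀ b : ZMod p, Equiv.addRight b ∈ φ.range := fun b => by
    obtain ⟨n, rfl⟩ := ZMod.natCast_zmod_surjective b
    exact ⟨c ^ n, Equiv.ext fun x => by rw [hcn]; rfl⟩
  let N := Subgroup.normalizer ((P : Subgroup H) : Set H)
  have hPc : ∀ g ∈ (P : Subgroup H), ∃ n : ℕ, g = c ^ n := by
    intro g hg
    have hz : Subgroup.zpowers c = (P : Subgroup H) :=
      Subgroup.eq_of_le_of_card_ge (Subgroup.zpowers_le.2 hcP) (by rw [Nat.card_zpowers, hc, hP])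
    rw [← hz] at hg
    obtain ⟨n, -, rfl⟩ := (mem_zpowers_iff_mem_range_orderOf).trans Finset.mem_image |>.1 hg
    exact ⟨n, rfl⟩
  have haff : ∀ g ∈ N, ∃ a : ZMod p, ∀ x, φ g x = a * x + φ g 0 := by
    intro g hg
    obtain ⟨k, hk⟩ := hPc _ ((Subgroup.mem_normalizer_iff.1 hg c).1 hcP)
    have hstep : ∀ x, φ g (x + 1) = φ g x + k := fun x => by
      rw [← hc1, ← Equiv.Perm.mul_apply, ← map_mul, show g * c = c ^ k * g by rw [← hk]; group, map_mul,
        Equiv.Perm.mul_apply, hcn]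
    refine ⟨k, fun x => ?_⟩
    obtain ⟨n, rfl⟩ := ZMod.natCast_zmod_surjective x
    induction n with
    | zero => simp
    | succ n ih =>
      push_cast
      rw [hstep, ih]
      ring
  choose A hA using fun g : N => haff g.1 g.2
  have hA1 : ∀ g : N, A g = φ g.1 1 - φ g.1 0 := fun g => by rw [hA g 1]; ring
  let χ : N →* ZMod p :=
    { toFun := A
      map_one' := by rw [hA1]; simp
      map_mul' := fun g k => by
        rw [hA1 (g * k), Subgroup.coe_mul, map_mul, Equiv.Perm.mul_apply, Equiv.Perm.mul_apply, hA g, hA g (φ k.1 0),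
          hA1 k]
        ring }
  let ψ : N →* (ZMod p)ˣ := χ.toHomUnits
  have hker : Nat.card ψ.ker ≤ p := by
    refine le_trans (le_of_eq (Nat.card_congr (Subgroup.equivMapOfInjective _ _ N.subtype_injective).toEquiv))
      ((Subgroup.card_le_of_le ?_).trans hP.le)
    rintro _ ⟨g, hg, rfl⟩
    have hg1 : A g = 1 := by
      have := congrArg Units.val (MonoidHom.mem_ker.1 hg)
      simpa [ψ, χ, MonoidHom.coe_toHomUnits] using this
    obtain ⟨n, hn⟩ := ZMod.natCast_zmod_surjective (φ g.1 0)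
    have : (g : H) = c ^ n := hφi (Equiv.ext fun x => by rw [hA g x, hg1, one_mul, hcn, hn])
    show (g : H) ∈ (P : Subgroup H)
    rw [this]
    exact pow_mem hcP n
  have hmul : Nat.card ψ.ker * Nat.card ψ.range = Nat.card N := by
    rw [← Subgroup.index_ker, Subgroup.card_mul_index]
  have hdvd : Nat.card ψ.range ∣ p - 1 := by
    have := Subgroup.card_subgroup_dvd_card ψ.range
    rwa [Nat.card_eq_fintype_card (α := (ZMod p)ˣ), ZMod.card_units] at this
  have hp3 : 3 < p := by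
    by_contra hle
    have := CfsgLib.Perm.isSolvable_of_card_le_three hα (not_lt.1 hle) π.range
    exact hins (Group.isSolvable_of_isSolvable_injective (f := π.rangeRestrict) (MonoidHom.rangeRestrict_injective_iff.2 hπ))
  have hidx : ψ.range.index = 2 := by
    have h1 := Subgroup.card_mul_index ψ.range
    rw [Nat.card_eq_fintype_card (α := (ZMod p)ˣ), ZMod.card_units] at h1
    have h2 : 2 * (Nat.card ψ.ker * Nat.card ψ.range) = p * (p - 1) := by rw [hmul]; exact hN
    have hR : 0 < Nat.card ψ.range := Nat.card_pos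
    have h3 : 2 * Nat.card ψ.ker = p * ψ.range.index := by
      have : Nat.card ψ.range * (2 * Nat.card ψ.ker) = Nat.card ψ.range * (p * ψ.range.index) := by
        rw [← h1] at h2
        linarith
      exact Nat.eq_of_mul_eq_mul_left hR this
    have hle2 : ψ.range.index ≤ 2 := by nlinarith
    rcases Nat.eq_zero_or_pos ψ.range.index with h0 | h0
    · rw [h0, mul_zero] at h1; omega
    · rcases (show ψ.range.index = 1 ∨ ψ.range.index = 2 by omega) with h4 | h4
      · rw [h4, mul_one] at h3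
        rcases hp.eq_two_or_odd with h5 | h5 <;> omega
      · exact h4
  refine ⟨by omega, htr, fun s hs hsq => ?_, ?_⟩
  · obtain ⟨r, hr⟩ := hsq
    have hr0 : r ≠ 0 := fun h0 => hs (by rw [hr, h0, mul_zero])
    obtain ⟨g, hg⟩ := Subgroup.mul_self_mem_of_index_two hidx (Units.mk0 r hr0)
    have hgs : A g = s := by
      have := congrArg Units.val hg
      simpa [ψ, χ, MonoidHom.coe_toHomUnits, hr] using this
    refine ⟨Equiv.addRight (-φ g.1 0) * φ g.1, mul_mem (htr _) ⟨_, rfl⟩, fun x => ?_⟩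
    simp [hA g x, hgs]
  · by_contra hall
    push Not at hall
    refine hins ?_
    have : Group.IsSolvable φ.range :=
      CfsgLib.Perm.isSolvable_of_affine φ.range (Equiv.refl _) fun g hg => hall g hg
    exact Group.isSolvable_of_isSolvable_injective (f := φ.rangeRestrict) (MonoidHom.rangeRestrict_injective_iff.2 hφi)

end CfsgLib.Recog.HalfNorm
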