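import Cfsg.Agent.Lib.Recog.EvenOverPSL.Space

/-!
For any group of permutations of `ZMod p` which contains the translations and is not affine, an invariant space
of functions with the constants and the identity contains every polynomial function of degree at most `p - 2`.
-/

set_option autoImplicit false

open Polynomial

namespace CfsgLib.Recog.HalfNorm

open CfsgLib.Recog.EvenOverPSL

variable {p : ℕ} [Fact p.Prime]

/-- If the powers up to `d` of all elements are short of degree `d`, all elements are affine. -/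
theorem affine_of_pow_short {G : Subgroup (Equiv.Perm (ZMod p))} {d : ℕ} (hdpos : 1 ≤ d) (hd : 2 * d ≤ p - 2)
    (hG : ∀ σ ∈ G, ∀ i ≤ d, DegLE d fun x => (σ x : ZMod p) ^ i) {σ : Equiv.Perm (ZMod p)} (hσ : σ ∈ G) :
    IsAffineMap (σ : ZMod p → ZMod p) := by
  have hp : p.Prime := Fact.out
  obtain ⟨Q, hQ, hQe⟩ := hG σ hσ 1 hdpos
  simp only [pow_one] at hQe
  rcases Nat.lt_or_ge Q.natDegree 2 with he | he
  · refine ⟨Q.coeff 1, Q.coeff 0, fun x => ?_⟩
    rw [← hQe, eval_eq_sum_range' he x, Finset.sum_range_succ, Finset.sum_range_one]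
    ring
  · exfalso
    set e := Q.natDegree with hedef
    set j := d / e + 1 with hj
    have hdm := Nat.div_add_mod d e
    have hmod := Nat.mod_lt d (show e > 0 by omega)
    have hje : d < j * e := by rw [hj, add_mul, one_mul, mul_comm]; omega
    have hje2 : j * e ≤ d + e := by rw [hj, add_mul, one_mul, mul_comm]; omega
    have hjd : j ≤ d := by
      have h2 : 2 * (d / e) ≤ e * (d / e) := Nat.mul_le_mul_right _ he
      omega
    obtain ⟨R, hR, hRe⟩ := hG σ hσ j hjd
    have heq : Q ^ j = R := by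
      refine poly_unique ?_ (by omega) fun x => ?_
      · rw [natDegree_pow, ← hedef]; omega
      · rw [eval_pow, hQe, hRe]
    rw [← heq, natDegree_pow, ← hedef] at hR
    omega

/-- An invariant space with the constants and the identity contains all polynomials of degree `p - 2`. -/
theorem full_space_any {G : Subgroup (Equiv.Perm (ZMod p))} (ht : ∀ b, Equiv.addRight b ∈ G)
    (hna : ∃ σ ∈ G, ¬ IsAffineMap (σ : ZMod p → ZMod p))
    (V : Submodule (ZMod p) (ZMod p → ZMod p)) (hV : ∀ σ ∈ G, ∀ f ∈ V, (fun x => f (σ x)) ∈ V)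
    (h1 : (fun _ => (1 : ZMod p)) ∈ V) (hid : (fun x : ZMod p => x) ∈ V)
    {f : ZMod p → ZMod p} (hf : DegLE (p - 2) f) : f ∈ V := by
  classical
  have hp : p.Prime := Fact.out
  have htV : ∀ b : ZMod p, ∀ f ∈ V, (fun x => f (x + b)) ∈ V := fun b f hf => hV _ (ht b) f hf
  by_cases hbig : ∃ σ ∈ G, ¬ DegLE (p - 3) (σ : ZMod p → ZMod p)
  · obtain ⟨σ, hσ, hnot⟩ := hbig
    obtain ⟨Q, hQ, hQe⟩ := exists_poly (σ : ZMod p → ZMod p)
    have hge : p - 2 ≤ Q.natDegree := by
      by_contra h
      exact hnot ⟨Q, by omega, hQe⟩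
    have hmem : (fun x => Q.eval x) ∈ V := by
      rw [show (fun x => Q.eval x) = fun x => σ x from funext hQe]
      exact hV σ hσ _ hid
    exact degLE_mem (fun i hi => pow_mem htV h1 _ Q rfl (by have := hp.two_le; omega) hmem i (by omega)) hf
  · push Not at hbig
    exfalso
    obtain ⟨σ₁, hσ₁, hna⟩ := hna
    let d := Nat.find (⟨p - 3, hbig⟩ : ∃ d, ∀ σ ∈ G, DegLE d (σ : ZMod p → ZMod p))
    have hd : ∀ σ ∈ G, DegLE d (σ : ZMod p → ZMod p) := Nat.find_spec
      (⟨p - 3, hbig⟩ : ∃ d, ∀ σ ∈ G, DegLE d (σ : ZMod p → ZMod p))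
    have hdle : d ≤ p - 3 := Nat.find_min' _ hbig
    have hd1 : 1 ≤ d := by
      by_contra h
      obtain ⟨Q, hQ, hQe⟩ := hd σ₁ hσ₁
      obtain ⟨c, rfl⟩ := natDegree_eq_zero.1 (by omega : Q.natDegree = 0)
      exact hna ⟨0, c, fun x => by rw [← hQe, eval_C]; ring⟩
    obtain ⟨σ₀, hσ₀, hnd⟩ : ∃ σ ∈ G, ¬ DegLE (d - 1) (σ : ZMod p → ZMod p) := by
      by_contra h
      push Not at h
      exact Nat.find_min _ (show d - 1 < d by omega) h
    let U : Submodule (ZMod p) (ZMod p → ZMod p) :=
      Submodule.span (ZMod p) ({fun _ => (1 : ZMod p)} ∪ {f | ∃ σ ∈ G, f = fun x => σ x})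
    have hU : ∀ σ ∈ G, ∀ f ∈ U, (fun x => f (σ x)) ∈ U := by
      intro σ hσ f hf
      induction hf using Submodule.span_induction with
      | mem g hg =>
        rcases hg with hg | ⟨τ, hτ, rfl⟩
        · rw [Set.mem_singleton_iff.1 hg]
          exact Submodule.subset_span (Or.inl rfl)
        · exact Submodule.subset_span (Or.inr ⟨τ * σ, G.mul_mem hτ hσ, rfl⟩)
      | zero => exact U.zero_mem
      | add g h _ _ ihg ihh => exact U.add_mem ihg ihh
      | smul c g _ ihg => exact U.smul_mem c ihg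
    have hUbound : ∀ f ∈ U, DegLE d f := by
      intro f hf
      induction hf using Submodule.span_induction with
      | mem g hg =>
        rcases hg with hg | ⟨τ, hτ, rfl⟩
        · rw [Set.mem_singleton_iff.1 hg]
          exact ⟨1, by simp, fun x => by simp⟩
        · exact hd τ hτ
      | zero => exact ⟨0, by simp, fun x => by simp⟩
      | add g h _ _ ihg ihh =>
        obtain ⟨P, h1, h2⟩ := ihg
        obtain ⟨Q, h3, h4⟩ := ihh
        exact ⟨P + Q, (natDegree_add_le _ _).trans (max_le h1 h3), fun x => by simp [h2, h4]⟩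
      | smul c g _ ihg =>
        obtain ⟨P, h1, h2⟩ := ihg
        exact ⟨C c * P, (natDegree_C_mul_le _ _).trans h1, fun x => by simp [h2]⟩
    have hUpow : ∀ i ≤ d, (fun x : ZMod p => x ^ i) ∈ U := by
      obtain ⟨Q, hQ, hQe⟩ := hd σ₀ hσ₀
      have hdeg : Q.natDegree = d := by
        by_contra h
        exact hnd ⟨Q, by omega, hQe⟩
      refine pow_mem (fun b f hf => hU _ (ht b) f hf) (Submodule.subset_span (Or.inl rfl)) d Q hdeg
        (by have := hp.two_le; omega) ?_
      rw [show (fun x => Q.eval x) = fun x => σ₀ x from funext hQe]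
      exact Submodule.subset_span (Or.inr ⟨σ₀, hσ₀, rfl⟩)
    have hshort : ∀ σ ∈ G, DegLE (p - 2 - d) (σ : ZMod p → ZMod p) := by
      intro σ hσ
      refine degLE_of_orth (by omega) fun i hi => ?_
      have hmem := hU σ.symm (G.inv_mem hσ) _ (hUpow i hi)
      obtain ⟨P, hP, hPe⟩ := hUbound _ hmem
      rw [← Equiv.sum_comp σ.symm (fun x => σ x * x ^ i),
        Finset.sum_congr rfl fun x _ => show σ (σ.symm x) * (σ.symm x) ^ i = (X * P).eval x by simp [hPe],
        sum_eval (natDegree_mul_le.trans (by rw [natDegree_X]; omega)),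
        coeff_eq_zero_of_natDegree_lt (lt_of_le_of_lt natDegree_mul_le (by rw [natDegree_X]; omega)), neg_zero]
    have h2d : 2 * d ≤ p - 2 := by
      have := Nat.find_min' (⟨p - 3, hbig⟩ : ∃ d, ∀ σ ∈ G, DegLE d (σ : ZMod p → ZMod p)) hshort
      omega
    refine hna (affine_of_pow_short hd1 h2d (fun σ hσ i hi => ?_) hσ₁)
    exact hUbound _ (hU σ hσ _ (hUpow i hi))

/-- An equivariant kernel killing the constants and the identity is constant. -/
theorem kernel_invariant_any {G : Subgroup (Equiv.Perm (ZMod p))} (ht : ∀ b, Equiv.addRight b ∈ G)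
    (hna : ∃ σ ∈ G, ¬ IsAffineMap (σ : ZMod p → ZMod p))
    {P : ZMod p → ZMod p → Prop} (K : ZMod p → ZMod p → ZMod p → ZMod p)
    (hP : ∀ σ ∈ G, ∀ x y, P x y → P (σ x) (σ y))
    (heq : ∀ σ ∈ G, ∀ x y, P x y → ∀ z, K (σ x) (σ y) (σ z) = K x y z)
    (h0 : ∀ x y, P x y → ∑ z, K x y z = 0) (h1 : ∀ x y, P x y → ∑ z, K x y z * z = 0)
    {x y : ZMod p} (hxy : P x y) (z z' : ZMod p) : K x y z = K x y z' := by
  let V : Submodule (ZMod p) (ZMod p → ZMod p) :=
    { carrier := {f | ∀ x y, P x y → ∑ z, K x y z * f z = 0}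
      zero_mem' := fun x y _ => by simp
      add_mem' := fun {f g} hf hg x y h => by
        simp only [Pi.add_apply, mul_add, Finset.sum_add_distrib, hf x y h, hg x y h, add_zero]
      smul_mem' := fun c f hf x y h => by
        simp only [Pi.smul_apply, smul_eq_mul, mul_left_comm _ c, ← Finset.mul_sum, hf x y h, mul_zero] }
  refine kernel_const (K := K x y) (fun f hf => ?_) z z'
  have hmem : f ∈ V := by
    refine full_space_any ht hna V (fun σ hσ g hg a b hab => ?_) (fun a b hab => ?_) (fun a b hab => h1 a b hab) hf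
    · rw [← hg (σ a) (σ b) (hP σ hσ a b hab), ← Equiv.sum_comp σ (fun z => K (σ a) (σ b) z * g z)]
      exact Finset.sum_congr rfl fun z _ => by rw [heq σ hσ a b hab]
    · simpa using h0 a b hab
  exact hmem x y hxy

end CfsgLib.Recog.HalfNorm
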