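import Cfsg.Agent.Lib.Recog.HalfNorm.Primitive

/-!
Transitivity, orbit count and primitivity read back from the labelled group.
-/

set_option autoImplicit false

namespace CfsgLib.Recog.HalfNorm

open MulAction
open scoped Pointwise

variable {p : ℕ} [Fact p.Prime] {H Ω : Type*} [Group H] [MulAction H Ω]
  {e : Ω ≃ ZMod p} {φ : H →* Equiv.Perm (ZMod p)}

theorem exists_smul_of_mem (hφ : ∀ (g : H) x, φ g (e x) = e (g • x)) {σ : Equiv.Perm (ZMod p)}
    (hσ : σ ∈ φ.range) : ∃ g : H, ∀ x, σ (e x) = e (g • x) := by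
  obtain ⟨g, rfl⟩ := hσ
  exact ⟨g, hφ g⟩

/-- One relation gives triple transitivity. -/
theorem triply_of_rel (hφ : ∀ (g : H) x, φ g (e x) = e (g • x)) {c : ZMod p}
    (hall : ∀ a b z : ZMod p, a ≠ b → z ≠ a → z ≠ b → Rel φ.range c a b z) :
    IsMultiplyPretransitive H Ω 3 := by
  rw [isMultiplyPretransitive_iff]
  have base : ∀ x : Fin 3 ↪ Ω, ∃ g : H, g • e.symm 0 = x 0 ∧ g • e.symm 1 = x 1 ∧ g • e.symm c = x 2 := by
    intro x
    have hne : ∀ i j : Fin 3, i ≠ j → e (x i) ≠ e (x j) := fun i j hij h => hij (x.injective (e.injective h))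
    obtain ⟨σ, hσ, h0, h1, h2⟩ := hall _ _ _ (hne 0 1 (by decide)) (hne 2 0 (by decide)) (hne 2 1 (by decide))
    obtain ⟨g, hg⟩ := exists_smul_of_mem hφ hσ
    refine ⟨g, e.injective ?_, e.injective ?_, e.injective ?_⟩ <;> rw [← hg, e.apply_symm_apply]
    exacts [h0, h1, h2]
  intro x y
  obtain ⟨g, g0, g1, g2⟩ := base x
  obtain ⟨k, k0, k1, k2⟩ := base y
  refine ⟨k * g⁻¹, Function.Embedding.ext fun i => ?_⟩
  show (k * g⁻¹) • x i = y i
  fin_cases i
  · show (k * g⁻¹) • x 0 = y 0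
    rw [← g0, mul_smul, inv_smul_smul, k0]
  · show (k * g⁻¹) • x 1 = y 1
    rw [← g1, mul_smul, inv_smul_smul, k1]
  · show (k * g⁻¹) • x 2 = y 2
    rw [← g2, mul_smul, inv_smul_smul, k2]

/-- The dichotomy: triply transitive, or two relations for `p ≡ 3` mod 4. -/
theorem triply_or_two (hφ : ∀ (g : H) x, φ g (e x) = e (g • x)) (h : Half p φ.range) :
    IsMultiplyPretransitive H Ω 3 ∨ (p % 4 = 3 ∧ ∃ c d : ZMod p, c ≠ 0 ∧ c ≠ 1 ∧ d ≠ 0 ∧ d ≠ 1 ∧
      ¬ Rel φ.range c 0 1 d) := by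
  have hc0 : (-1 : ZMod p) ≠ 0 := neg_ne_zero.2 one_ne_zero
  have hc1 : (-1 : ZMod p) ≠ 1 := fun h' => h.two_ne_zero (by linear_combination -h')
  by_cases hp : p % 4 = 3
  · by_cases hall : ∀ d : ZMod p, d ≠ 0 → d ≠ 1 → Rel φ.range (-1) 0 1 d
    · refine Or.inl (triply_of_rel hφ (c := -1) fun a b z hab hza hzb => ?_)
      obtain ⟨σ, hσ, s0, s1⟩ := h.pair_trans hab
      obtain ⟨d, rfl⟩ := σ.surjective z
      have := (hall d (fun h' => hza (by rw [h', s0])) (fun h' => hzb (by rw [h', s1]))).map hσ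
      rwa [s0, s1] at this
    · push Not at hall
      obtain ⟨d, hd0, hd1, hd⟩ := hall
      exact Or.inr ⟨hp, -1, d, hc0, hc1, hd0, hd1, hd⟩
  · exact Or.inl (triply_of_rel hφ (c := -1) fun a b z hab hza hzb =>
      rel_all_of_one h hp hc0 hc1 hab hza hzb)

/-- The number of orbits of the stabiliser of two points. -/
theorem four_orbits (hφ : ∀ (g : H) x, φ g (e x) = e (g • x)) (h : Half p φ.range) (hp : p % 4 = 3)
    {c d : ZMod p} (hc0 : c ≠ 0) (hc1 : c ≠ 1) (hd0 : d ≠ 0) (hd1 : d ≠ 1)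
    (hcd : ¬ Rel φ.range c 0 1 d) (α β : Ω) (hαβ : α ≠ β) :
    Nat.card (MulAction.orbitRel.Quotient ↥(MulAction.stabilizer H α ⊓ MulAction.stabilizer H β) Ω) = 4 := by
  obtain ⟨σ, hσ, s0, s1⟩ := h.pair_trans (e.injective.ne hαβ)
  set S := MulAction.stabilizer H α ⊓ MulAction.stabilizer H β
  let rep : Fin 4 → Ω := ![α, β, e.symm (σ c), e.symm (σ d)]
  let f : Fin 4 → MulAction.orbitRel.Quotient S Ω := fun i => Quotient.mk'' (rep i)
  have horb : ∀ x y : Ω, (Quotient.mk'' x : MulAction.orbitRel.Quotient S Ω) = Quotient.mk'' y ↔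
      ∃ g : H, g • α = α ∧ g • β = β ∧ g • y = x := by
    intro x y
    rw [Quotient.eq'']
    constructor
    · rintro ⟨g, hg⟩
      exact ⟨g.1, mem_stabilizer_iff.1 g.2.1, mem_stabilizer_iff.1 g.2.2, hg⟩
    · rintro ⟨g, ga, gb, gy⟩
      exact ⟨⟨g, mem_stabilizer_iff.2 ga, mem_stabilizer_iff.2 gb⟩, gy⟩
  have hrel : ∀ (u v : ZMod p), Rel φ.range u 0 1 v →
      (Quotient.mk'' (e.symm (σ v)) : MulAction.orbitRel.Quotient S Ω) = Quotient.mk'' (e.symm (σ u)) := by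
    rintro u v ⟨τ, hτ, t0, t1, t2⟩
    obtain ⟨g, hg⟩ := exists_smul_of_mem hφ (mul_mem (mul_mem hσ hτ) (inv_mem hσ))
    refine (horb _ _).2 ⟨g, e.injective ?_, e.injective ?_, e.injective ?_⟩
    · rw [← hg, ← s0]; simp [t0]
    · rw [← hg, ← s1]; simp [t1]
    · rw [← hg]; simp [t2]
  have hrel' : ∀ (u v : ZMod p), (Quotient.mk'' (e.symm (σ v)) : MulAction.orbitRel.Quotient S Ω) =
      Quotient.mk'' (e.symm (σ u)) → Rel φ.range u 0 1 v := by
    intro u v huv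
    obtain ⟨g, ga, gb, gy⟩ := (horb _ _).1 huv
    refine ⟨σ⁻¹ * φ g * σ, mul_mem (mul_mem (inv_mem hσ) ⟨g, rfl⟩) hσ, ?_, ?_, ?_⟩
    · simp only [Equiv.Perm.mul_apply, s0, hφ, ga]
      exact Equiv.Perm.inv_eq_iff_eq.2 s0.symm
    · simp only [Equiv.Perm.mul_apply, s1, hφ, gb]
      exact Equiv.Perm.inv_eq_iff_eq.2 s1.symm
    · have := hφ g (e.symm (σ u))
      rw [e.apply_symm_apply, gy, e.apply_symm_apply] at this
      simp [this]
  have hone : ∀ x, ∀ i : Fin 4, (i = 0 ∨ i = 1) → (Quotient.mk'' x : MulAction.orbitRel.Quotient S Ω) = f i →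
      x = rep i := by
    intro x i hi hx
    obtain ⟨g, ga, gb, gy⟩ := (horb _ _).1 hx
    rcases hi with rfl | rfl
    · exact gy.symm.trans ga
    · exact gy.symm.trans gb
  have hne : ∀ u : ZMod p, u ≠ 0 → u ≠ 1 → e.symm (σ u) ≠ α ∧ e.symm (σ u) ≠ β := fun u hu0 hu1 => by
    constructor <;> intro h' <;> rw [Equiv.symm_apply_eq] at h'
    · exact hu0 (σ.injective (h'.trans s0.symm))
    · exact hu1 (σ.injective (h'.trans s1.symm))
  have hinj : Function.Injective f := by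
    intro i j hij
    fin_cases i <;> fin_cases j <;> first
      | rfl
      | exact absurd (hone _ 0 (Or.inl rfl) hij) hαβ.symm
      | exact absurd (hone _ 0 (Or.inl rfl) hij.symm) hαβ.symm
      | exact absurd (hone _ 0 (Or.inl rfl) hij) (hne c hc0 hc1).1
      | exact absurd (hone _ 0 (Or.inl rfl) hij.symm) (hne c hc0 hc1).1
      | exact absurd (hone _ 0 (Or.inl rfl) hij) (hne d hd0 hd1).1
      | exact absurd (hone _ 0 (Or.inl rfl) hij.symm) (hne d hd0 hd1).1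
      | exact absurd (hone _ 1 (Or.inr rfl) hij) (hne c hc0 hc1).2
      | exact absurd (hone _ 1 (Or.inr rfl) hij.symm) (hne c hc0 hc1).2
      | exact absurd (hone _ 1 (Or.inr rfl) hij) (hne d hd0 hd1).2
      | exact absurd (hone _ 1 (Or.inr rfl) hij.symm) (hne d hd0 hd1).2
      | exact absurd (hrel' _ _ hij) hcd
      | exact absurd (hrel' _ _ hij.symm) hcd
  have hsurj : Function.Surjective f := by
    intro q
    induction q using Quotient.inductionOn' with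
    | h x =>
      obtain ⟨z, hz⟩ := σ.surjective (e x)
      have hx : x = e.symm (σ z) := by rw [hz, e.symm_apply_apply]
      subst hx
      rcases eq_or_ne z 0 with rfl | hz0
      · exact ⟨0, by simp [f, rep, s0]⟩
      rcases eq_or_ne z 1 with rfl | hz1
      · exact ⟨1, by simp [f, rep, s1]⟩
      rcases two_orbits h hp hc0 hc1 hd0 hd1 hz0 hz1 with hr | hr | hr
      exacts [absurd hr hcd, ⟨2, (hrel _ _ hr).symm⟩, ⟨3, (hrel _ _ hr).symm⟩]
  rw [← Nat.card_eq_of_bijective f ⟨hinj, hsurj⟩, Nat.card_eq_fintype_card, Fintype.card_fin]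

/-- The stabiliser of a point is primitive on the other points. -/
theorem stabilizer_primitive (hφ : ∀ (g : H) x, φ g (e x) = e (g • x)) (h : Half p φ.range) (hp7 : 7 < p)
    (α : Ω) : IsPreprimitive ↥(stabilizer H α) ↥(SubMulAction.ofStabilizer H α) := by
  classical
  rcases triply_or_two hφ h with h3 | ⟨hp, -⟩
  · have : IsPretransitive H Ω := ⟨fun x y => by
      obtain ⟨σ, hσ, s0⟩ : ∃ σ ∈ φ.range, σ (e x) = e y :=
        ⟨_, h.trans (e y - e x), by simp⟩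
      obtain ⟨g, hg⟩ := exists_smul_of_mem hφ hσ
      exact ⟨g, e.injective ((hg x).symm.trans s0)⟩⟩
    exact isPreprimitive_of_is_two_pretransitive (SubMulAction.ofStabilizer.isMultiplyPretransitive.1 h3)
  have htr : IsPretransitive (stabilizer H α) (SubMulAction.ofStabilizer H α) := ⟨fun x y => by
    have hx : x.1 ≠ α := x.2
    have hy : y.1 ≠ α := y.2
    obtain ⟨σ, hσ, s0, s1⟩ := h.pair_trans (e.injective.ne hx.symm)
    obtain ⟨τ, hτ, t0, t1⟩ := h.pair_trans (e.injective.ne hy.symm)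
    obtain ⟨g, hg⟩ := exists_smul_of_mem hφ (mul_mem hτ (inv_mem hσ))
    refine ⟨⟨g, mem_stabilizer_iff.2 (e.injective ?_)⟩, Subtype.ext (e.injective ?_)⟩
    · rw [← hg]
      show τ (σ⁻¹ (e α)) = e α
      rw [Equiv.Perm.inv_eq_iff_eq.2 s0.symm, t0]
    · show e (g • x.1) = e y.1
      rw [← hg]
      show τ (σ⁻¹ (e x.1)) = e y.1
      rw [Equiv.Perm.inv_eq_iff_eq.2 s1.symm, t1]⟩
  refine IsPreprimitive.mk fun {B} hB => ?_
  rcases B.subsingleton_or_nontrivial with hs | ⟨x, hx, y, hy, hxy⟩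
  · exact Or.inl hs
  right
  by_contra hne
  obtain ⟨w, hw⟩ : ∃ w, w ∉ B := not_forall.1 fun hall => hne (Set.eq_univ_iff_forall.2 hall)
  obtain ⟨τ, hτ, t0, t1⟩ := h.pair_trans (e.injective.ne (Ne.symm x.2 : α ≠ x.1))
  let S : Finset (ZMod p) := Finset.univ.filter fun z => ∃ v ∈ B, τ z = e v.1
  have hS : ∀ z, z ∈ S ↔ ∃ v ∈ B, τ z = e v.1 := fun z => by simp [S]
  have hmem : ∀ v : SubMulAction.ofStabilizer H α, τ⁻¹ (e v.1) ∈ S ↔ v ∈ B := fun v => by
    rw [hS]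
    simp only [Equiv.Perm.inv_def, Equiv.apply_symm_apply]
    exact ⟨fun ⟨u, hu, he⟩ => (Subtype.ext (e.injective he) : v = u) ▸ hu, fun hv => ⟨v, hv, rfl⟩⟩
  have hy1 : τ⁻¹ (e y.1) ≠ 1 := fun h' => hxy (Subtype.ext (e.injective (t1.symm.trans
    (Equiv.Perm.inv_eq_iff_eq.1 h').symm)))
  refine no_block h hp hp7 S ?_ ?_ ?_ ((hmem y).2 hy) hy1 (mt (hmem w).1 hw) ?_
  · rw [hS]
    rintro ⟨v, -, he⟩
    exact v.2 (e.injective (he.symm.trans t0))
  · exact (hS 1).2 ⟨x, hx, t1⟩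
  · intro σ hσ s0 u hu hσu z hz
    obtain ⟨g, hg⟩ := exists_smul_of_mem hφ (mul_mem (mul_mem hτ hσ) (inv_mem hτ))
    have hgα : g • α = α := by
      refine e.injective ?_
      rw [← hg]
      show τ (σ (τ⁻¹ (e α))) = e α
      rw [Equiv.Perm.inv_eq_iff_eq.2 t0.symm, s0, t0]
    obtain ⟨v, hv, hve⟩ := (hS u).1 hu
    obtain ⟨v', hv', hve'⟩ := (hS _).1 hσu
    obtain ⟨v'', hv'', hve''⟩ := (hS z).1 hz
    let k : stabilizer H α := ⟨g, mem_stabilizer_iff.2 hgα⟩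
    have hkv : k • v = v' := Subtype.ext (e.injective (by
      show e (g • v.1) = e v'.1
      rw [← hg, ← hve, ← hve']
      simp))
    have hkB : k • B = B := hB.smul_eq_of_nonempty ⟨v', ⟨v, hv, hkv⟩, hv'⟩
    refine (hS _).2 ⟨k • v'', hkB ▸ Set.smul_mem_smul_set hv'', ?_⟩
    show τ (σ z) = e (g • v''.1)
    rw [← hg, ← hve'']
    simp
  · intro h'
    exact w.2 (e.injective ((Equiv.Perm.inv_eq_iff_eq.1 h').trans t0))

end CfsgLib.Recog.HalfNorm
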